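import Cfsg.Agent.Characters.Core
import Cfsg.Prelude.Def_Characters
import Cfsg.Agent.S0157
import Cfsg.Agent.FastGrp
import Cfsg.Agent.Prune
set_option linter.all false

section
prune_inst 0x7f00000000000000000000000000000000000000000000000000000000000000000000000000000000000000000000000000000000000000000000000000000000000000000000000000000000000000003fffffffffffffffffffffffffffbeffbdffffffff

-- part: H430/Conj/Defs
section
set_option linter.all false


/-!
# The conjugation character (S4792, S4793): definitions (helper430)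

* `HasFix C χ` : the restriction of `χ` to the subgroup `C` contains the trivial character.
* `Row G` : every irreducible character of `G` restricted to a suitable centralizer `C_G(x)` contains the trivial
  character, equivalently occurs in the conjugation character.
-/

set_option autoImplicit false

open Cfsg
open scoped ComplexConjugate

namespace Cfsg.Agent.H430.Conj

universe u v

/-- The restriction of the character `χ` to `C` contains the trivial character (`∑_{c ∈ C} χ c ≠ 0`). -/
def HasFix {G : Type u} [Group G] (C : Subgroup G) (χ : G → ℂ) : Prop := ∑ᶠ c : C, χ c ≠ 0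

/-- Every irreducible character is a constituent of the conjugation character. -/
def Row (G : Type u) [Group G] : Prop :=
  ∀ χ : G → ℂ, IsIrrCharacter G χ → ∃ x : G, HasFix (Subgroup.centralizer {x}) χ

end Cfsg.Agent.H430.Conj
end

-- part: H917/Conj/Basic
section
set_option linter.all false
open scoped Cfsg.Agent.FastGrp

/-!
# The conjugation character: basic tools (S4792, S4793)

Sections `basic`, `simple` (tools F and K), transport, tool H1 and the final step of
`tools/plans/S4792_Tools_stub.lean.txt`.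
-/

set_option autoImplicit false

open Cfsg
open scoped ComplexConjugate

namespace Cfsg.Agent.H430.Conj

open Cfsg.Agent.Characters.Core

universe u v

section basic

variable {G : Type u} [Group G]

/-- The linear character `l` of `A` is a constituent of the restriction of `χ`. -/
def Occ (A : Subgroup G) (l : A →* ℂˣ) (χ : G → ℂ) : Prop := ∑ᶠ a : A, χ a * (((l a)⁻¹ : ℂˣ) : ℂ) ≠ 0

/-- The restriction of `ρ` to `A`, twisted by the inverse of the linear character `l`. -/
noncomputable def twist {V : Type*} [AddCommGroup V] [Module ℂ V] (ρ : Representation ℂ G V) (A : Subgroup G)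
    (l : A →* ℂˣ) : Representation ℂ A V where
  toFun a := (((l a)⁻¹ : ℂˣ) : ℂ) • ρ a
  map_one' := by simp only [_root_.map_one, _root_.inv_one, _root_.Units.val_one, _root_.OneMemClass.coe_one, _root_.one_smul]
  map_mul' a b := by
    simp only [map_mul, mul_inv, Subgroup.coe_mul, Units.val_mul]
    rw [smul_mul_smul_comm]

theorem twist_apply {V : Type*} [AddCommGroup V] [Module ℂ V] (ρ : Representation ℂ G V) (A : Subgroup G)
    (l : A →* ℂˣ) (a : A) : twist ρ A l a = (((l a)⁻¹ : ℂˣ) : ℂ) • ρ a := rfl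

theorem mem_invariants_twist {V : Type*} [AddCommGroup V] [Module ℂ V] (ρ : Representation ℂ G V) (A : Subgroup G)
    (l : A →* ℂˣ) (v : V) : v ∈ (twist ρ A l).invariants ↔ ∀ a : A, ρ a v = (l a : ℂ) • v := by
  rw [Representation.mem_invariants]
  refine forall_congr' fun a => ?_
  rw [twist_apply, LinearMap.smul_apply]
  constructor
  · intro h
    conv_rhs => rw [← h, smul_smul]
    rw [← Units.val_mul, mul_inv_cancel, Units.val_one, one_smul]
  · intro h
    rw [h, smul_smul, ← Units.val_mul, inv_mul_cancel, Units.val_one, one_smul]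

variable [Finite G]

theorem sum_twist {V : Type*} [AddCommGroup V] [Module ℂ V] [FiniteDimensional ℂ V]
    (ρ : Representation ℂ G V) (A : Subgroup G) (l : A →* ℂˣ) :
    ∑ᶠ a : A, ρ.character a * (((l a)⁻¹ : ℂˣ) : ℂ)
      = (Nat.card A : ℂ) * (Module.finrank ℂ (twist ρ A l).invariants : ℂ) := by
  classical
  have := Fintype.ofFinite A
  have hne : (Nat.card A : ℂ) ≠ 0 := by exact_mod_cast Nat.card_pos.ne'
  have : Invertible (Nat.card A : ℂ) := invertibleOfNonzero hne
  have h := Representation.card_inv_mul_sum_char_eq_finrank (twist ρ A l)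
  rw [← h, ← mul_assoc, mul_inv_cancel₀ hne, one_mul, finsum_eq_sum_of_fintype]
  refine Finset.sum_congr rfl fun a _ => ?_
  rw [Representation.character, Representation.character, twist_apply, map_smul, smul_eq_mul, mul_comm]

theorem occ_iff {V : Type*} [AddCommGroup V] [Module ℂ V] [FiniteDimensional ℂ V]
    {ρ : Representation ℂ G V} {A : Subgroup G} {l : A →* ℂˣ} :
    Occ A l ρ.character ↔ ∃ v : V, v ≠ 0 ∧ ∀ a : A, ρ a v = (l a : ℂ) • v := by
  have hne : (Nat.card A : ℂ) ≠ 0 := by exact_mod_cast Nat.card_pos.ne'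
  rw [Occ, sum_twist]
  constructor
  · intro h
    have h1 : Module.finrank ℂ (twist ρ A l).invariants ≠ 0 := by
      intro h0
      apply h
      rw [h0, Nat.cast_zero, mul_zero]
    have h2 : (twist ρ A l).invariants ≠ ⊥ := by
      intro h0
      rw [h0, finrank_bot] at h1
      exact h1 rfl
    obtain ⟨v, hv, hv0⟩ := Submodule.exists_mem_ne_zero_of_ne_bot h2
    exact ⟨v, hv0, (mem_invariants_twist ρ A l v).1 hv⟩
  · rintro ⟨v, hv0, hv⟩
    refine mul_ne_zero hne ?_
    rw [Nat.cast_ne_zero]
    intro h0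
    have h1 := Submodule.finrank_eq_zero.1 h0
    have h2 := (mem_invariants_twist ρ A l v).2 hv
    rw [h1, Submodule.mem_bot] at h2
    exact hv0 h2

omit [Finite G] in
theorem hasFix_iff_occ {χ : G → ℂ} {C : Subgroup G} : HasFix C χ ↔ Occ C 1 χ := by
  simp [HasFix, Occ]

theorem hasFix_iff {V : Type*} [AddCommGroup V] [Module ℂ V] [FiniteDimensional ℂ V]
    {ρ : Representation ℂ G V} {C : Subgroup G} :
    HasFix C ρ.character ↔ ∃ v : V, v ≠ 0 ∧ ∀ c ∈ C, ρ c v = v := by
  rw [hasFix_iff_occ, occ_iff]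
  simp only [_root_.ne_eq, _root_.MonoidHom.one_apply, _root_.Units.val_one, _root_.one_smul, _root_.Subtype.forall]

theorem sum_eq_nat {χ : G → ℂ} (hχ : IsCharacter G χ) (C : Subgroup G) :
    ∃ n : ℕ, ∑ᶠ c : C, χ c = (Nat.card C : ℂ) * n := by
  obtain ⟨n, ρ, rfl⟩ := hχ
  refine ⟨Module.finrank ℂ (twist ρ C 1).invariants, ?_⟩
  have := sum_twist ρ C 1
  simpa only [_root_.MonoidHom.one_apply, _root_.inv_one, _root_.Units.val_one, _root_.mul_one] using this

theorem hasFix_of_vector {V : Type*} [AddCommGroup V] [Module ℂ V] [FiniteDimensional ℂ V]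
    (ρ : Representation ℂ G V) (C : Subgroup G) (v : V) (hv : v ≠ 0) (h : ∀ c ∈ C, ρ c v = v) :
    HasFix C ρ.character :=
  hasFix_iff.2 ⟨v, hv, h⟩

theorem HasFix.exists_vector {V : Type*} [AddCommGroup V] [Module ℂ V] [FiniteDimensional ℂ V]
    {ρ : Representation ℂ G V} {C : Subgroup G} (h : HasFix C ρ.character) : ∃ v : V, v ≠ 0 ∧ ∀ c ∈ C, ρ c v = v :=
  hasFix_iff.1 h

theorem HasFix.mono {χ : G → ℂ} (hχ : IsCharacter G χ) {C D : Subgroup G} (h : C ≤ D) (hD : HasFix D χ) :
    HasFix C χ := by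
  obtain ⟨n, ρ, rfl⟩ := hχ
  obtain ⟨v, hv, hv'⟩ := hD.exists_vector
  exact hasFix_of_vector ρ C v hv fun c hc => hv' c (h hc)

theorem Occ.exists_vector {V : Type*} [AddCommGroup V] [Module ℂ V] [FiniteDimensional ℂ V]
    {ρ : Representation ℂ G V} {A : Subgroup G} {l : A →* ℂˣ} (h : Occ A l ρ.character) :
    ∃ v : V, v ≠ 0 ∧ ∀ a : A, ρ a v = (l a : ℂ) • v :=
  occ_iff.1 h

theorem occ_of_vector {V : Type*} [AddCommGroup V] [Module ℂ V] [FiniteDimensional ℂ V]
    (ρ : Representation ℂ G V) {A : Subgroup G} {l : A →* ℂˣ} {v : V} (hv : v ≠ 0)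
    (h : ∀ a : A, ρ a v = (l a : ℂ) • v) : Occ A l ρ.character :=
  occ_iff.2 ⟨v, hv, h⟩

/-- **Tool H1.** `A` normalised by `C`, `v ≠ 0` in the `l`-eigenspace of `A`, fixed by the stabiliser of `l` in `C`. -/
theorem hasFix_of_stab {V : Type*} [AddCommGroup V] [Module ℂ V] [FiniteDimensional ℂ V]
    (ρ : Representation ℂ G V) {A C : Subgroup G} (hn : ∀ c ∈ C, ∀ a ∈ A, c * a * c⁻¹ ∈ A) {l : A →* ℂˣ}
    {v : V} (hv : v ≠ 0) (hl : ∀ a : A, ρ a v = (l a : ℂ) • v)
    (hfix : ∀ c ∈ C, (∀ a b : A, (b : G) = c * a * c⁻¹ → l b = l a) → ρ c v = v) : HasFix C ρ.character := by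
  classical
  have := Fintype.ofFinite A
  have := Fintype.ofFinite C
  have hcard : (Fintype.card A : ℂ) ≠ 0 := by exact_mod_cast Fintype.card_ne_zero
  let S : V := ∑ c : C, ρ c v
  have hS : ∀ d ∈ C, ρ d S = S := by
    intro d hd
    simp only [S, map_sum]
    have h1 : ∀ c : C, ρ d (ρ c v) = ρ ((⟨d, hd⟩ * c : C) : G) v := by
      intro c; rw [Subgroup.coe_mul, map_mul, Module.End.mul_apply]
    simp only [h1]
    exact Fintype.sum_equiv (Equiv.mulLeft (⟨d, hd⟩ : C)) _ _ fun c => rfl
  refine hasFix_of_vector ρ C S ?_ hS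
  intro hS0
  let Q : Module.End ℂ V := ∑ a : A, (((l a)⁻¹ : ℂˣ) : ℂ) • ρ a
  have hQ : ∀ c : C, Q (ρ c v) =
      if (∀ a b : A, (b : G) = c * a * (c : G)⁻¹ → l b = l a) then (Fintype.card A : ℂ) • v else 0 := by
    intro c
    -- conjugation by `c`
    let cj : A → A := fun a => ⟨c * a * (c : G)⁻¹, hn c c.2 a a.2⟩
    have hcj : Function.Injective cj := by
      intro a b h
      have := congrArg Subtype.val h
      simp only [cj, mul_left_inj, mul_right_inj] at this
      exact Subtype.ext this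
    have hval : ∀ a : A, ρ (cj a) (ρ c v) = (l a : ℂ) • ρ c v := by
      intro a
      have h2 : (cj a : G) * c = c * a := by simp [cj]
      calc ρ (cj a) (ρ c v) = ρ ((cj a : G) * c) v := by
            rw [map_mul ρ (cj a : G) (c : G), Module.End.mul_apply]
        _ = ρ c (ρ a v) := by rw [h2, map_mul, Module.End.mul_apply]
        _ = _ := by rw [hl, map_smul]
    let ν : A →* ℂˣ :=
      { toFun := fun a => (l (cj a))⁻¹ * l a
        map_one' := by
          have : cj 1 = 1 := by ext; simp [cj]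
          rw [this]; simp
        map_mul' := by
          intro a b
          have : cj (a * b) = cj a * cj b := by ext; simp only [cj, _root_.Subgroup.coe_mul, _root_.MulMemClass.mk_mul_mk, _root_.conj_mul]
          rw [this, map_mul, map_mul, mul_inv, mul_mul_mul_comm] }
    have hQ1 : Q (ρ c v) = (∑ a : A, ((Units.coeHom ℂ).comp ν) a) • ρ c v := by
      simp only [Q, LinearMap.sum_apply, LinearMap.smul_apply, Finset.sum_smul]
      rw [← Equiv.sum_comp (Equiv.ofBijective cj (Finite.injective_iff_bijective.1 hcj))]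
      refine Finset.sum_congr rfl fun a _ => ?_
      rw [Equiv.ofBijective_apply, hval, smul_smul]
      rfl
    split_ifs with hst
    · have h4 : ∀ a : A, ((Units.coeHom ℂ).comp ν) a = 1 := by
        intro a
        change (((l (cj a))⁻¹ * l a : ℂˣ) : ℂ) = 1
        rw [hst a (cj a) rfl, inv_mul_cancel, Units.val_one]
      rw [hQ1, hfix c c.2 hst]
      simp only [h4, Finset.sum_const, Finset.card_univ, nsmul_eq_mul, mul_one]
    · have h5 : (Units.coeHom ℂ).comp ν ≠ 1 := by
        intro h
        apply hst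
        intro a b hb
        have h6 := DFunLike.congr_fun h a
        have h7 : (((l (cj a))⁻¹ * l a : ℂˣ) : ℂ) = 1 := h6
        have h8 : (l (cj a))⁻¹ * l a = 1 := Units.ext (by simpa only [_root_.Units.val_mul, _root_.Units.val_inv_eq_inv_val, _root_.Units.val_one] using h7)
        have h9 : b = cj a := Subtype.ext hb
        rw [h9]
        exact inv_mul_eq_one.1 h8
      rw [hQ1, sum_hom_units_eq_zero _ h5, zero_smul]
  have h11 : Q S = ((Finset.univ.filter fun c : C =>
      ∀ a b : A, (b : G) = c * a * (c : G)⁻¹ → l b = l a).card : ℂ) • (Fintype.card A : ℂ) • v := by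
    simp only [S, map_sum]
    rw [Finset.sum_congr rfl fun c _ => hQ c, ← Finset.sum_filter, Finset.sum_const, ← Nat.cast_smul_eq_nsmul ℂ]
  rw [hS0, map_zero] at h11
  have h12 : ((Finset.univ.filter fun c : C =>
      ∀ a b : A, (b : G) = c * a * (c : G)⁻¹ → l b = l a).card : ℂ) ≠ 0 := by
    rw [Nat.cast_ne_zero, ← Nat.pos_iff_ne_zero, Finset.card_pos]
    refine ⟨1, Finset.mem_filter.2 ⟨Finset.mem_univ _, fun a b hb => ?_⟩⟩
    have : b = a := Subtype.ext (by simpa using hb)
    rw [this]
  rcases smul_eq_zero.1 h11.symm with h | h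
  · exact h12 h
  · rcases smul_eq_zero.1 h with h | h
    · exact hcard h
    · exact hv h

/-- **Free orbit lemma.** The stabiliser of `l` in `C` is contained in the kernel of `l`. -/
theorem hasFix_of_free {χ : G → ℂ} (hχ : IsCharacter G χ) {A C : Subgroup G}
    (hn : ∀ c ∈ C, ∀ a ∈ A, c * a * c⁻¹ ∈ A) {l : A →* ℂˣ} (hl : Occ A l χ)
    (hfree : ∀ c ∈ C, (∀ a b : A, (b : G) = c * a * c⁻¹ → l b = l a) → ∃ a : A, (a : G) = c ∧ l a = 1) :
    HasFix C χ := by
  obtain ⟨n, ρ, rfl⟩ := hχ
  obtain ⟨v, hv, hv'⟩ := hl.exists_vector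
  refine hasFix_of_stab ρ hn hv hv' fun c hc hst => ?_
  obtain ⟨a, rfl, ha⟩ := hfree c hc hst
  rw [hv', ha, Units.val_one, one_smul]

theorem Occ.conj {χ : G → ℂ} (hχ : IsCharacter G χ) {A : Subgroup G} {l l' : A →* ℂˣ} (hl : Occ A l χ) {g : G}
    (hn : ∀ a ∈ A, g * a * g⁻¹ ∈ A) (h : ∀ a b : A, (b : G) = g * a * g⁻¹ → l' a = l b) : Occ A l' χ := by
  obtain ⟨n, ρ, rfl⟩ := hχ
  obtain ⟨v, hv, hv'⟩ := hl.exists_vector
  have hinj : Function.Injective (ρ g⁻¹) := by
    intro x y hxy
    have := congrArg (ρ g) hxy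
    simpa only [_root_.Representation.self_inv_apply] using this
  refine occ_of_vector ρ (v := ρ g⁻¹ v) (fun h0 => hv (hinj (by rw [h0, map_zero]))) fun a => ?_
  have h1 : (a : G) * g⁻¹ = g⁻¹ * (g * a * g⁻¹) := by group
  calc ρ a (ρ g⁻¹ v) = ρ (a * g⁻¹) v := by rw [map_mul, Module.End.mul_apply]
    _ = ρ g⁻¹ (ρ (g * a * g⁻¹) v) := by rw [h1, map_mul, Module.End.mul_apply]
    _ = ρ g⁻¹ ((l ⟨g * a * g⁻¹, hn a a.2⟩ : ℂ) • v) := by rw [← hv' ⟨g * a * g⁻¹, hn a a.2⟩]
    _ = _ := by rw [map_smul, ← h a ⟨g * a * g⁻¹, hn a a.2⟩ rfl]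

/-- Commuting operators on an invariant nonzero subspace have a common eigenvector. -/
theorem exists_common_eigen {V : Type*} [AddCommGroup V] [Module ℂ V] [FiniteDimensional ℂ V]
    {ι : Type*} (f : ι → Module.End ℂ V) (hf : ∀ i j, Commute (f i) (f j)) :
    ∀ (n : ℕ) (W : Submodule ℂ V), Module.finrank ℂ W = n → W ≠ ⊥ →
      (∀ i, ∀ w ∈ W, f i w ∈ W) → ∃ v ∈ W, v ≠ 0 ∧ ∀ i, ∃ μ : ℂ, f i v = μ • v := by
  intro n
  induction n using Nat.strong_induction_on with
  | _ n ih =>
    intro W hn hW hinv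
    by_cases hsc : ∀ i, ∃ μ : ℂ, ∀ w ∈ W, f i w = μ • w
    · obtain ⟨v, hv, hv0⟩ := Submodule.exists_mem_ne_zero_of_ne_bot hW
      refine ⟨v, hv, hv0, fun i => ?_⟩
      obtain ⟨μ, hμ⟩ := hsc i
      exact ⟨μ, hμ v hv⟩
    · push Not at hsc
      obtain ⟨i, hi⟩ := hsc
      have : Nontrivial W := Submodule.nontrivial_iff_ne_bot.2 hW
      obtain ⟨μ, hμ⟩ := Module.End.exists_eigenvalue ((f i).restrict (hinv i))
      obtain ⟨⟨u, huW⟩, hu⟩ := hμ.exists_hasEigenvector
      have hu1 : f i u = μ • u := by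
        have := hu.apply_eq_smul
        simpa using congrArg Subtype.val this
      have hu0 : u ≠ 0 := fun h => hu.2 (by ext; exact h)
      obtain ⟨w, hw, hwne⟩ := hi μ
      let W' : Submodule ℂ V := W ⊓ LinearMap.ker (f i - μ • (1 : Module.End ℂ V))
      have hmem : ∀ v, v ∈ W' ↔ v ∈ W ∧ f i v = μ • v := by
        intro v
        simp only [W', LinearMap.mem_ker, sub_eq_zero, _root_.Submodule.mem_inf, _root_.LinearMap.sub_apply, _root_.LinearMap.smul_apply, _root_.Module.End.one_apply]
      have hlt : W' < W := by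
        refine lt_of_le_of_ne inf_le_left ?_
        intro h
        apply hwne
        exact ((hmem w).1 (h ▸ hw)).2
      have hbot : W' ≠ ⊥ := by
        intro h
        have : u ∈ W' := (hmem u).2 ⟨huW, hu1⟩
        rw [h, Submodule.mem_bot] at this
        exact hu0 this
      obtain ⟨v, hv, hv0, hve⟩ := ih (Module.finrank ℂ W')
        (hn ▸ Submodule.finrank_lt_finrank_of_lt hlt) W' rfl hbot (by
          intro j v hv
          obtain ⟨h1, h2⟩ := (hmem v).1 hv
          refine (hmem _).2 ⟨hinv j v h1, ?_⟩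
          have := congrArg (fun g : Module.End ℂ V => g v) (hf i j).eq
          simp only [Module.End.mul_apply] at this
          rw [this, h2, map_smul])
      exact ⟨v, hlt.le hv, hv0, hve⟩

/-- An abelian subgroup acting nontrivially has a nontrivial weight. -/
theorem exists_occ_rep {V : Type*} [AddCommGroup V] [Module ℂ V] [FiniteDimensional ℂ V]
    (ρ : Representation ℂ G V) {A : Subgroup G} (hA : IsMulCommutative A) {a₀ : G} (ha₀ : a₀ ∈ A) (hρ : ρ a₀ ≠ 1) :
    ∃ l : A →* ℂˣ, l ≠ 1 ∧ Occ A l ρ.character := by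
  classical
  have : Fintype A := Fintype.ofFinite A
  let P : Module.End ℂ V := (Fintype.card A : ℂ)⁻¹ • ∑ a : A, ρ a
  have hcard : (Fintype.card A : ℂ) ≠ 0 := by
    exact_mod_cast Fintype.card_ne_zero
  have hcomm : ∀ i j : A, Commute (ρ i) (ρ j) := by
    intro i j
    change ρ i * ρ j = ρ j * ρ i
    rw [← map_mul, ← map_mul, ← Subgroup.coe_mul, ← Subgroup.coe_mul, hA.is_comm.comm i j]
  have hPa : ∀ a : A, ρ a * P = P := by
    intro a
    simp only [P, mul_smul_comm, Finset.mul_sum]
    congr 1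
    apply Fintype.sum_equiv (Equiv.mulLeft a)
    intro b
    simp
  have hker : LinearMap.ker P ≠ ⊥ := by
    intro h
    apply hρ
    have hinj : Function.Injective P := LinearMap.ker_eq_bot.1 h
    have hsurj : Function.Surjective P := LinearMap.injective_iff_surjective.1 hinj
    ext v
    obtain ⟨w, rfl⟩ := hsurj v
    have := congrArg (fun g : Module.End ℂ V => g w) (hPa ⟨a₀, ha₀⟩)
    simpa only [_root_.Module.End.one_apply, _root_.Module.End.mul_apply] using this
  have hcP : ∀ a : A, Commute P (ρ a) := by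
    intro a
    apply Commute.smul_left
    exact Commute.sum_left _ _ _ fun b _ => hcomm b a
  obtain ⟨v, hv, hv0, hve⟩ := exists_common_eigen (fun a : A => ρ a) hcomm _
    (LinearMap.ker P) rfl hker (by
      intro a w hw
      rw [LinearMap.mem_ker] at hw ⊢
      have := congrArg (fun g : Module.End ℂ V => g w) (hcP a).eq
      simp only [Module.End.mul_apply] at this
      rw [this, hw, map_zero])
  choose μ hμ using hve
  have hsm : ∀ s t : ℂ, s • v = t • v → s = t := by
    intro s t h
    exact smul_left_injective ℂ hv0 h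
  let χ : A →* ℂ :=
    { toFun := μ
      map_one' := hsm _ _ (by rw [← hμ]; simp)
      map_mul' := fun a b => hsm _ _ (by
        rw [← hμ, Subgroup.coe_mul, map_mul, Module.End.mul_apply, hμ b, map_smul, hμ a, smul_smul,
          mul_comm]) }
  have hχ : ∀ a : A, ρ a v = χ a • v := hμ
  have hl : ∀ a : A, ((χ.toHomUnits a : ℂˣ) : ℂ) = χ a := fun a => χ.coe_toHomUnits a
  refine ⟨χ.toHomUnits, ?_, occ_of_vector ρ hv0 fun a => by rw [hl, hχ]⟩
  intro h
  rw [LinearMap.mem_ker] at hv
  apply hv0
  have hχ1 : ∀ a, χ a = 1 := by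
    intro a
    rw [← hl, h]
    rfl
  have h1 : P v = v := by
    simp only [P, LinearMap.smul_apply, LinearMap.sum_apply, hχ, hχ1,
      one_smul, Finset.sum_const, Finset.card_univ]
    rw [← Nat.cast_smul_eq_nsmul ℂ, smul_smul, inv_mul_cancel₀ hcard, one_smul]
  rw [← h1, hv]

end basic

section simple

variable {G : Type u} [Group G] [Finite G] [IsSimpleGroup G]

omit [Finite G] in
/-- A nontrivial irreducible representation of a simple group is faithful. -/
theorem injective_of_simple {n : ℕ} {ρ : Representation ℂ G (Fin n → ℂ)} (hρ : ρ.IsIrreducible)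
    (h1 : ρ.character ≠ 1) : Function.Injective ρ := by
  rcases (MonoidHom.normal_ker ρ).eq_bot_or_eq_top with h | h
  · exact (MonoidHom.ker_eq_bot_iff ρ).1 h
  · exfalso
    apply h1
    have htriv : ∀ g, ρ g = 1 := by
      intro g
      have : g ∈ MonoidHom.ker ρ := by rw [h]; trivial
      exact this
    -- every subspace is invariant, so the dimension is one
    have hnt : Nontrivial (Fin n → ℂ) := by
      by_contra hc
      rw [not_nontrivial_iff_subsingleton] at hc
      obtain ⟨a, b, hab⟩ := hρ.toNontrivial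
      apply hab
      apply Subrepresentation.toSubmodule_injective
      exact Subsingleton.elim _ _
    obtain ⟨v, hv⟩ := exists_ne (0 : Fin n → ℂ)
    let W : Subrepresentation ρ :=
      { toSubmodule := ℂ ∙ v
        apply_mem_toSubmodule := by
          intro g w hw
          rw [htriv g]
          exact hw }
    have hW : W = ⊤ := by
      rcases hρ.eq_bot_or_eq_top W with h0 | h0
      · exfalso
        have h2 : (ℂ ∙ v) = (⊥ : Submodule ℂ (Fin n → ℂ)) := congrArg Subrepresentation.toSubmodule h0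
        rw [Submodule.span_singleton_eq_bot] at h2
        exact hv h2
      · exact h0
    have h2 : (ℂ ∙ v) = (⊤ : Submodule ℂ (Fin n → ℂ)) := congrArg Subrepresentation.toSubmodule hW
    have h3 : Module.finrank ℂ (Fin n → ℂ) = 1 := by
      rw [← finrank_top, ← h2, finrank_span_singleton hv]
    funext g
    rw [Representation.character, htriv g, LinearMap.trace_one, h3]
    simp

/-- In a simple group a nontrivial irreducible character is faithful. -/
theorem exists_occ_of_simple {χ : G → ℂ} (hχ : IsIrrCharacter G χ) (h1 : χ ≠ 1) {A : Subgroup G}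
    (hA : IsMulCommutative A) (hA1 : A ≠ ⊥) : ∃ l : A →* ℂˣ, l ≠ 1 ∧ Occ A l χ := by
  obtain ⟨n, ρ, hρ, rfl⟩ := hχ
  obtain ⟨a₀, ha₀, ha₀1⟩ := (Subgroup.bot_or_exists_ne_one A).resolve_left hA1
  exact exists_occ_rep ρ hA ha₀ fun h => ha₀1 (injective_of_simple hρ h1 (by rw [h, map_one]))

theorem hasFix_one {G : Type u} [Group G] [Finite G] (C : Subgroup G) : HasFix C (1 : G → ℂ) := by
  have := Fintype.ofFinite C
  simp only [HasFix, Pi.one_apply]
  rw [finsum_eq_sum_of_fintype, Finset.sum_const, Finset.card_univ, nsmul_eq_mul, mul_one]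
  exact_mod_cast Fintype.card_ne_zero

/-- **Tool K.** Every nontrivial linear character `l` of `A` has a conjugate `l ^ g : a ↦ l (g a g⁻¹)`, `g` normalising
`A`, whose stabiliser in `C_G(x)` is contained in `A` and in the kernel of `l ^ g` (for instance trivial). -/
theorem row_of_orbit (x : G) (A : Subgroup G) (hA : IsMulCommutative A) (hA1 : A ≠ ⊥)
    (hn : ∀ c ∈ Subgroup.centralizer {x}, ∀ a ∈ A, c * a * c⁻¹ ∈ A)
    (h : ∀ l : A →* ℂˣ, l ≠ 1 → ∃ g : G, (∀ a ∈ A, g * a * g⁻¹ ∈ A) ∧ ∀ c ∈ Subgroup.centralizer {x},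
      (∀ a b a' b' : A, (b : G) = c * a * c⁻¹ → (a' : G) = g * a * g⁻¹ → (b' : G) = g * b * g⁻¹ → l b' = l a') →
        ∃ a a' : A, (a : G) = c ∧ (a' : G) = g * a * g⁻¹ ∧ l a' = 1) : Row G := by
  intro χ hχ
  by_cases h1 : χ = 1
  · exact ⟨x, h1 ▸ hasFix_one _⟩
  obtain ⟨l, hl1, hl⟩ := exists_occ_of_simple hχ h1 hA hA1
  obtain ⟨g, hg, hst⟩ := h l hl1
  refine ⟨x, ?_⟩
  let cg : A → A := fun a => ⟨g * a * g⁻¹, hg a a.2⟩
  let l' : A →* ℂˣ :=
    { toFun := fun a => l (cg a)
      map_one' := by
        have : cg 1 = 1 := by ext; simp [cg]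
        rw [this, map_one]
      map_mul' := by
        intro a b
        have : cg (a * b) = cg a * cg b := by ext; simp only [cg, _root_.Subgroup.coe_mul, _root_.MulMemClass.mk_mul_mk, _root_.conj_mul]
        rw [this, map_mul] }
  have hl' : Occ A l' χ := by
    refine hl.conj (isIrr_isCharacter hχ) hg fun a b hb => ?_
    have : b = cg a := Subtype.ext hb
    rw [this]
    rfl
  refine hasFix_of_free (isIrr_isCharacter hχ) hn hl' fun c hc hcst => ?_
  obtain ⟨a, a', ha, ha', hla⟩ := hst c hc (by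
    intro a b a' b' hb ha' hb'
    have e1 : a' = cg a := Subtype.ext ha'
    have e2 : b' = cg b := Subtype.ext hb'
    rw [e1, e2]
    exact hcst a b hb)
  refine ⟨a, ha, ?_⟩
  have : a' = cg a := Subtype.ext ha'
  rw [← hla, this]
  rfl

/-- **Tool F.** A Frobenius subgroup `A C` whose complement `C` is a full centralizer `C_G(x)`. -/
theorem row_of_frob (x : G) (A : Subgroup G) (hA : IsMulCommutative A) (hA1 : A ≠ ⊥)
    (hn : ∀ c ∈ Subgroup.centralizer {x}, ∀ a ∈ A, c * a * c⁻¹ ∈ A)
    (hf : ∀ c ∈ Subgroup.centralizer {x}, ∀ a ∈ A, c * a = a * c → c = 1 ∨ a = 1) : Row G := by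
  refine row_of_orbit x A hA hA1 hn fun l hl1 => ⟨1, fun a ha => by simpa using ha, fun c hc hst => ?_⟩
  have hc1 : c = 1 := by
    by_contra hc1
    apply hl1
    have hAc : ∀ a b : A, (a : G) * b = b * a := by
      intro a b
      rw [← Subgroup.coe_mul, ← Subgroup.coe_mul, hA.is_comm.comm a b]
    let φ : A → A := fun a => a⁻¹ * ⟨c * (a : G) * c⁻¹, hn c hc a a.2⟩
    have hφ : Function.Injective φ := by
      intro a b hab'
      have h6 : (a : G)⁻¹ * (c * (a : G) * c⁻¹) = (b : G)⁻¹ * (c * (b : G) * c⁻¹) :=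
        congrArg Subtype.val hab'
      have h7 : (b : G) * (a : G)⁻¹ = (c * (b : G) * c⁻¹) * (c * (a : G) * c⁻¹)⁻¹ := by
        have h8 : (b : G) * (a : G)⁻¹ * (c * (a : G) * c⁻¹) = c * (b : G) * c⁻¹ := by
          rw [mul_assoc, h6]; group
        rw [← h8]; group
      have h9 : c * ((b : G) * (a : G)⁻¹) = ((b : G) * (a : G)⁻¹) * c := by
        have : (c * (b : G) * c⁻¹) * (c * (a : G) * c⁻¹)⁻¹ = c * ((b : G) * (a : G)⁻¹) * c⁻¹ := by
          group
        rw [this] at h7
        exact (eq_mul_inv_iff_mul_eq.1 h7).symm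
      have h10 := (hf c hc _ (A.mul_mem b.2 (A.inv_mem a.2)) h9).resolve_left hc1
      ext
      exact (mul_inv_eq_one.1 h10).symm
    have hφs : Function.Surjective φ := Finite.injective_iff_surjective.1 hφ
    ext b
    obtain ⟨a, rfl⟩ := hφs b
    have h3 := hst a ⟨c * (a : G) * c⁻¹, hn c hc a a.2⟩ a ⟨c * (a : G) * c⁻¹, hn c hc a a.2⟩ rfl
      (by simp) (by simp)
    simp only [φ, map_mul, map_inv, h3, inv_mul_cancel, MonoidHom.one_apply]
  exact ⟨1, 1, by rw [hc1]; rfl, by simp, map_one l⟩

end simple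

/-- transport -/
theorem Row.of_equiv {G : Type u} {H : Type v} [Group G] [Group H] [Finite G] (e : G ≃* H) (h : Row G) : Row H := by
  have : Finite H := Finite.of_equiv _ e.toEquiv
  intro χ hχ
  have hχ' : IsIrrCharacter G (χ ∘ e) := isIrr_comp e.toMonoidHom e.surjective hχ
  obtain ⟨x, hx⟩ := h _ hχ'
  refine ⟨e x, ?_⟩
  obtain ⟨n, ρ, rfl⟩ := isIrr_isCharacter hχ
  have h1 : ρ.character ∘ e = Representation.character (ρ.comp e.toMonoidHom) := rfl
  rw [h1] at hx
  obtain ⟨v, hv, hfix⟩ := hx.exists_vector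
  refine hasFix_of_vector ρ _ v hv fun c hc => ?_
  rw [Subgroup.mem_centralizer_singleton_iff] at hc
  obtain ⟨c, rfl⟩ := e.surjective c
  refine hfix c ?_
  rw [Subgroup.mem_centralizer_singleton_iff]
  apply e.injective
  rw [map_mul, map_mul]
  exact hc

section final

variable {G : Type*} [Group G]

/-- Number of commuting partners as fixed points of the conjugation action. -/
theorem isCharacter_conj_card [Finite G] :
    IsCharacter G (fun g : G => (Nat.card ↥(Subgroup.centralizer ({g} : Set G)) : ℂ)) := by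
  let act : MulAction G (ConjAct G) :=
    { smul := fun g h => ConjAct.toConjAct (g * ConjAct.ofConjAct h * g⁻¹)
      one_smul := by
        intro h
        change ConjAct.toConjAct (1 * ConjAct.ofConjAct h * 1⁻¹) = h
        simp
      mul_smul := by
        intro a b h
        change ConjAct.toConjAct (a * b * ConjAct.ofConjAct h * (a * b)⁻¹)
          = ConjAct.toConjAct (a * ConjAct.ofConjAct (ConjAct.toConjAct (b * ConjAct.ofConjAct h * b⁻¹)) * a⁻¹)
        rw [ConjAct.ofConjAct_toConjAct]
        congr 1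
        group }
  have hfin : Finite (ConjAct G) := Finite.of_equiv G ConjAct.toConjAct.toEquiv
  have h := S0157.isCharacter_fixedBy (G := G) (ConjAct G)
  convert h using 1
  funext g
  congr 1
  refine Nat.card_congr (Equiv.subtypeEquiv ConjAct.toConjAct.toEquiv fun c => ?_)
  rw [Subgroup.mem_centralizer_singleton_iff]
  change c * g = g * c ↔ g * c * g⁻¹ = c
  rw [mul_inv_eq_iff_eq_mul]
  exact eq_comm

/-- **Final step.** -/
theorem final {G : Type*} [Group G] [Fintype G] (h : Row G) (χ : Cfsg.IrrCharacter G) :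
    ∃ m : ℕ, 0 < m ∧
      Cfsg.classInner (χ : G → ℂ) (fun g : G => (Nat.card ↥(Subgroup.centralizer ({g} : Set G)) : ℂ)) = m := by
  classical
  have hχ := isIrr_isCharacter χ.2
  obtain ⟨m, hm⟩ := classInner_isNat hχ (isCharacter_conj_card (G := G))
  refine ⟨m, ?_, hm⟩
  rw [Nat.pos_iff_ne_zero]
  intro hm0
  -- double counting
  have key : ∑ g : G, (χ : G → ℂ) g * (Nat.card ↥(Subgroup.centralizer ({g} : Set G)) : ℂ)
      = ∑ x : G, ∑ᶠ c : Subgroup.centralizer ({x} : Set G), (χ : G → ℂ) c := by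
    have h1 : ∀ g : G, (Nat.card ↥(Subgroup.centralizer ({g} : Set G)) : ℂ)
        = ∑ x : G, if g * x = x * g then (1 : ℂ) else 0 := by
      intro g
      rw [Finset.sum_boole, Nat.card_eq_fintype_card, Fintype.card_subtype]
      congr 2
      ext x
      simp only [Subgroup.mem_centralizer_singleton_iff, Finset.mem_filter, Finset.mem_univ, true_and]
      exact eq_comm
    have h2 : ∀ x : G, ∑ᶠ c : Subgroup.centralizer ({x} : Set G), (χ : G → ℂ) c
        = ∑ g : G, if g * x = x * g then (χ : G → ℂ) g else 0 := by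
      intro x
      have := Fintype.ofFinite (Subgroup.centralizer ({x} : Set G))
      rw [finsum_eq_sum_of_fintype, ← Finset.sum_filter]
      refine (Finset.sum_subtype (Finset.univ.filter fun g : G => g * x = x * g) (fun g => ?_)
        (fun g => (χ : G → ℂ) g)).symm
      rw [Subgroup.mem_centralizer_singleton_iff]
      simp only [_root_.Finset.mem_filter, _root_.Finset.mem_univ, _root_.true_and]
    simp only [h1, h2, Finset.mul_sum, mul_ite, mul_one, mul_zero]
    exact Finset.sum_comm
  choose n hn using fun x : G => sum_eq_nat hχ (Subgroup.centralizer ({x} : Set G))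
  obtain ⟨x₀, hx₀⟩ := h χ χ.2
  have h3 : ∑ x : G, (Nat.card ↥(Subgroup.centralizer ({x} : Set G)) * n x) = 0 := by
    have h4 : (∑ x : G, ((Nat.card ↥(Subgroup.centralizer ({x} : Set G)) * n x : ℕ) : ℂ)) = 0 := by
      have h5 : Cfsg.classInner (χ : G → ℂ)
          (fun g : G => (Nat.card ↥(Subgroup.centralizer ({g} : Set G)) : ℂ)) = 0 := by
        rw [hm, hm0, Nat.cast_zero]
      rw [classInner_def] at h5
      have hne : (Nat.card G : ℂ)⁻¹ ≠ 0 := inv_ne_zero (by exact_mod_cast Nat.card_pos.ne')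
      have h6 := (mul_eq_zero.1 h5).resolve_left hne
      simp only [Complex.conj_natCast] at h6
      rw [key] at h6
      simpa only [hn, _root_.Nat.card_eq_fintype_card, _root_.Nat.cast_mul] using h6
    exact_mod_cast h4
  have h7 := (Finset.sum_eq_zero_iff.1 h3) x₀ (Finset.mem_univ _)
  apply hx₀
  rw [hn x₀]
  exact_mod_cast h7

end final

end Cfsg.Agent.H430.Conj

private theorem dce_9db66a6532a9 : _root_.True := by
  try have : _root_.True := by simp only [_root_.Cfsg.Agent.H430.Conj.HasFix.eq_1]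
  try have : _root_.True := by simp only [_root_.Cfsg.Agent.H430.Conj.Occ.eq_1]
  exact _root_.True.intro
end
end
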